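/-
helper86, project BHRSU6: the SU_6 row S5802 on top of helper37's BHRSU kit.  Definitions shared by the modules of
the leaf [E-SU6-F3] (`q = 2`: the normaliser of an adjoint-closed cubic field lies in a symplectic-type subfield group).
-/
import Mathlib
import Cfsg.Prelude.Def_GeometricClasses
import Cfsg.Prelude.Def_ClassicalGeometry
import Cfsg.Agent.Lib.Helper37.BHRSU.Defs

set_option autoImplicit false

namespace Cfsg.Agent.Lib.Helper86.BHRSU6

open Cfsg Cfsg.Geo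
open scoped MatrixGroups Matrix

variable {F : Type*} [Field F]

/-- The conjugate transpose for `q = 2` (the adjoint for `hermForm 6 F 2` when `|F| = 4`): `(kᵀ)` with all
entries squared. -/
def dag (k : Matrix (Fin 6) (Fin 6) F) : Matrix (Fin 6) (Fin 6) F := (kᵀ).map (fun a => a ^ 2)

/-- A hyperbolic pair for the field `K`: `x`, `y` are isotropic for the `K`-hermitian form (`f(kx, x) = 0` for all
`k ∈ K`), the `K`-hermitian product of `x` and `y` is self-adjoint (`f(kx, y) = f(ky, x)`) and non-zero. -/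
structure IsHypPair (K : Subalgebra F (Matrix (Fin 6) (Fin 6) F)) (x y : Fin 6 → F) : Prop where
  isoX : ∀ k ∈ K, hermForm 6 F 2 (k *ᵥ x) x = 0
  isoY : ∀ k ∈ K, hermForm 6 F 2 (k *ᵥ y) y = 0
  symm : ∀ k ∈ K, hermForm 6 F 2 (k *ᵥ x) y = hermForm 6 F 2 (k *ᵥ y) x
  ne : ∃ k ∈ K, hermForm 6 F 2 (k *ᵥ x) y ≠ 0

/-- The `F₂`-form `K₀ x + K₀ y` of `F^6` (`K₀` the self-adjoint elements of `K`). -/
def V0 (K : Subalgebra F (Matrix (Fin 6) (Fin 6) F)) (x y : Fin 6 → F) : Set (Fin 6 → F) :=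
  {v | ∃ k₁ ∈ K, ∃ k₂ ∈ K, dag k₁ = k₁ ∧ dag k₂ = k₂ ∧ v = k₁ *ᵥ x + k₂ *ᵥ y}

/-- The pattern set of the Mitchell root vectors mod 2: the vectors with exactly two non-zero coordinates, and the
vectors with all six coordinates non-zero of product `1`. -/
def InR6 (v : Fin 6 → F) : Prop :=
  (∃ i j, i ≠ j ∧ v i ≠ 0 ∧ v j ≠ 0 ∧ ∀ k, k ≠ i → k ≠ j → v k = 0) ∨ ((∀ i, v i ≠ 0) ∧ ∏ i, v i = 1)

end Cfsg.Agent.Lib.Helper86.BHRSU6
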